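import Cfsg.Agent.Lib.MonsterLocal52.Thompson.Data
import Cfsg.Agent.Lib.M24Classes.Centralizers

/-!
The checks on the coded data for the permutation of order 3 without fixed points.

Owner: helper52.
-/

set_option autoImplicit false
set_option maxRecDepth 20000

namespace Cfsg.Agent.Lib.MonsterLocal52.Thompson

open Cfsg Cfsg.Agent.Lib.Golay Cfsg.Agent.Lib.M24Classes

theorem ok_lat : data.ok = true := by decide +kernel

theorem ok_objs : data.objsOK = true := by decide +kernel

theorem ok_gens : data.gensOK = true := by decide +kernel

theorem ok_tree : data.treeOK = true := by decide +kernel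

theorem ok_cover : data.coverOK = true := by decide +kernel

theorem ok_root : data.rootOK = true := by decide +kernel

theorem ok_fix : data.fixOK = true := by decide +kernel

theorem ok_ker : data.kerOK = true := by decide +kernel

theorem cent_lists : data.centA.map (fun e => e.1.1) = M24Classes.Data.orb0 ∧
    data.centB.map (fun e => e.1.1) = M24Classes.Data.stab0 := by
  decide +kernel

theorem good : data.Good where
  lat := ok_lat
  prime := by norm_num [data]
  odd := by norm_num [data]
  objs_ok := ok_objs
  gens_ok := ok_gens
  tree_ok := ok_tree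
  cover_ok := ok_cover
  root_ok := ok_root
  fix_ok := ok_fix
  ker_ok := ok_ker
  cent := fun τ hτ => by
    have h : (τ : Equiv.Perm GolayPt) ∈ Centralizers.cent (gperm M24Classes.Data.r0) :=
      Centralizers.mem_cent.mpr ⟨τ.2, congrArg Subtype.val hτ⟩
    obtain ⟨a, ha, b, hb, he⟩ := Centralizers.product3 Centralizers.ok0 h
    rw [← cent_lists.1] at ha
    rw [← cent_lists.2] at hb
    obtain ⟨ea, hea, rfl⟩ := List.mem_map.mp ha
    obtain ⟨eb, heb, rfl⟩ := List.mem_map.mp hb
    exact ⟨ea, hea, eb, heb, he.symm⟩

end Cfsg.Agent.Lib.MonsterLocal52.Thompson
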