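import Cfsg.Agent.Lib.MonsterLocal52.Thompson.Checks
import Cfsg.Agent.Lib.MonsterLocal52.Chain

/-!
The permutations of the nine objects form the alternating group.

Owner: helper52.
-/

set_option autoImplicit false
set_option maxRecDepth 20000

namespace Cfsg.Agent.Lib.MonsterLocal52.Thompson

open Cfsg

/-- Words carrying one point to another and fixing the earlier ones. -/
def transW : List (ℕ × ℕ × List ℕ) :=
  [(0, 0, []),
   (0, 1, [0]),
   (0, 2, [2]),
   (0, 3, [3]),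
   (0, 4, [4]),
   (0, 5, [5]),
   (0, 6, [6]),
   (0, 7, [7]),
   (0, 8, [0, 5]),
   (1, 1, []),
   (1, 2, [8, 0]),
   (1, 3, [21]),
   (1, 4, [22, 4]),
   (1, 5, [23, 0]),
   (1, 6, [29, 4]),
   (1, 7, [57, 4]),
   (1, 8, [4, 0, 4]),
   (2, 2, []),
   (2, 3, [44]),
   (2, 4, [26, 3]),
   (2, 5, [58]),
   (2, 6, [25, 3]),
   (2, 7, [49, 2, 0]),
   (2, 8, [2, 0, 2, 0]),
   (3, 3, []),
   (3, 4, [22, 43, 7]),
   (3, 5, [23, 48, 8]),
   (3, 6, [25, 26, 2]),
   (3, 7, [60, 7, 0, 2]),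
   (3, 8, [25, 0, 22]),
   (4, 4, []),
   (4, 5, [19, 55, 0, 0, 4]),
   (4, 6, [25, 42, 8, 0]),
   (4, 7, [58, 7, 0, 0]),
   (4, 8, [7, 0, 47, 0]),
   (5, 5, []),
   (5, 6, [48, 0, 50, 3, 0]),
   (5, 7, [54, 0, 48, 3, 0]),
   (5, 8, [54, 0, 42, 0, 53]),
   (6, 6, []),
   (6, 7, [7, 0, 29, 22, 0, 0]),
   (6, 8, [45, 0, 41, 3, 0])]

theorem even_gens : ∀ e ∈ data.allG, Equiv.Perm.sign (data.permE e.2) = 1 := by
  decide +kernel

theorem trans_ok : ∀ i j : Fin data.n, i.val + 2 < data.n → i ≤ j →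
    ∃ e ∈ transW, e.1 = i.val ∧ e.2.1 = j.val ∧ data.wordOK e.2.2 = true ∧
      Equiv.Perm.sign (data.wordPerm e.2.2) = 1 ∧
      (∀ x : Fin data.n, x < i → data.wordPerm e.2.2 x = x) ∧ data.wordPerm e.2.2 i = j := by
  decide +kernel

theorem range_eq : good.phi.range = alternatingGroup (Fin 9) := by
  refine le_antisymm ?_ ?_
  · intro f hf
    have h : f ∈ Submonoid.closure good.PS := good.range_phi ▸ hf
    refine (Submonoid.closure_le (S := (alternatingGroup (Fin data.n)).toSubmonoid)).mpr ?_ h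
    rintro _ ⟨e, he, rfl⟩
    exact Equiv.Perm.mem_alternatingGroup.mpr (even_gens e he)
  · refine alternating_le _ fun i j hi hij => ?_
    obtain ⟨e, -, -, -, hw, hs, h1, h2⟩ := trans_ok i j hi hij
    exact ⟨_, LocData.wordPerm_mem good hw, Equiv.Perm.mem_alternatingGroup.mpr hs, h1, h2⟩

theorem no_normal_two (N : Subgroup good.phi.range) (hN : N.Normal) (hp : IsPGroup 2 N) : N = ⊥ := by
  haveI : Fact (Nat.Prime 2) := ⟨Nat.prime_two⟩
  haveI : IsSimpleGroup (alternatingGroup (Fin 9)) :=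
    alternatingGroup.isSimpleGroup (by simp)
  obtain ⟨e, -⟩ : ∃ e : good.phi.range ≃* alternatingGroup (Fin 9), True :=
    ⟨MulEquiv.subgroupCongr range_eq, trivial⟩
  haveI : IsSimpleGroup good.phi.range := e.isSimpleGroup
  rcases hN.eq_bot_or_eq_top with h | h
  · exact h
  exfalso
  obtain ⟨n, hn⟩ := hp.exists_card_eq
  rw [h, Subgroup.card_top, Nat.card_congr e.toEquiv, nat_card_alternatingGroup, Nat.card_fin] at hn
  have : (3 : ℕ) ∣ 2 := Nat.prime_three.dvd_of_dvd_pow (hn ▸ (by decide : (3 : ℕ) ∣ Nat.factorial 9 / 2))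
  omega

end Cfsg.Agent.Lib.MonsterLocal52.Thompson
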