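import Cfsg.Agent.Lib.MonsterLocal52.Thompson.Group
import Cfsg.Agent.Lib.MonsterLocal52.Setup

/-!
Monster type: the centraliser of an element of order 3 that is not 3-central in the centraliser of
two commuting conjugates, modulo that element, is of Thompson type.

Owner: helper52.
-/

set_option autoImplicit false
set_option maxRecDepth 20000

namespace Cfsg.Agent.Lib.MonsterLocal52.Thompson

open Cfsg Cfsg.Agent.Lib.Leech Cfsg.Agent.Lib.Golay
open Cfsg.Agent.Lib.LeechMod2
open Cfsg.Agent.Lib.M24Classes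

local notation "Cen[" z "]" => Subgroup.centralizer ({z} : Set _)

/-- An element of order 3 over an element with six fixed points is central in a Sylow subgroup. -/
theorem central_of_six {C2 : Type*} [Group C2] [Finite C2] (f : C2 →* Spor.Co1)
    (hrange : f.range = crossGroup.map Frame.bar) (hker : IsPGroup 2 f.ker) {y : C2}
    (hy : y ^ 3 = 1) (hy1 : f y ≠ 1) {σ : M24} (hσ : (σ : Equiv.Perm GolayPt) = gperm Data.r6)
    {c : Spor.Co1} (hcmem : c ∈ crossGroup.map Frame.bar)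
    (hc : c * f y * c⁻¹ = Frame.permBar σ) :
    ∃ P : Sylow 3 C2, y ∈ (Subgroup.center ↥(P : Subgroup C2)).map (P : Subgroup C2).subtype := by
  haveI : Fact (Nat.Prime 3) := ⟨Nat.prime_three⟩
  obtain ⟨n, hn⟩ := IsPGroup.iff_card.mp hker
  have hcop : ¬ 3 ∣ Nat.card f.ker := by
    rw [hn]
    intro h
    have := Nat.prime_three.dvd_of_dvd_pow h
    omega
  obtain ⟨Cy, hCy⟩ : ∃ Cy, Cy = Subgroup.centralizer ({y} : Set C2) := ⟨_, rfl⟩
  -- the centraliser in the code group embeds in the image of the centraliser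
  have hmem : ∀ τ : Centralizers.cent (gperm Data.r6),
      c⁻¹ * Frame.permBar ⟨τ.1, (Centralizers.mem_cent.mp τ.2).1⟩ * c ∈ Cy.map f := by
    intro τ
    obtain ⟨t, ht⟩ : ∃ t : M24, t = ⟨τ.1, (Centralizers.mem_cent.mp τ.2).1⟩ := ⟨_, rfl⟩
    rw [← ht]
    have htσ : t * σ = σ * t := Subtype.ext (by
      rw [Subgroup.coe_mul, Subgroup.coe_mul, hσ, ht]; exact (Centralizers.mem_cent.mp τ.2).2)
    obtain ⟨g, hg⟩ : c⁻¹ * Frame.permBar t * c ∈ f.range := by
      rw [hrange]
      exact mul_mem (mul_mem (inv_mem hcmem) ⟨_, Frame.permHom_mem_cross t, rfl⟩) hcmem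
    have hfy : f y = c⁻¹ * Frame.permBar σ * c := by rw [← hc]; group
    have hsame : f y = f (g * y * g⁻¹) := by
      rw [map_mul, map_mul, map_inv, hg, hfy]
      calc c⁻¹ * Frame.permBar σ * c
          = c⁻¹ * (Frame.permBar (σ * t) * (Frame.permBar t)⁻¹) * c := by
            rw [map_mul, mul_inv_cancel_right]
        _ = _ := by rw [← htσ, map_mul]; group
    obtain ⟨q, hq, hqe⟩ := Co1Local52.exists_conj_ker Nat.prime_three f hcop hy
      (show (g * y * g⁻¹) ^ 3 = 1 by rw [conj_pow, hy, mul_one, mul_inv_cancel]) hsame hy1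
    refine ⟨q⁻¹ * g, ?_, by rw [map_mul, map_inv, MonoidHom.mem_ker.mp hq, inv_one, one_mul, hg]⟩
    rw [hCy, SetLike.mem_coe, Subgroup.mem_centralizer_singleton_iff]
    calc q⁻¹ * g * y = q⁻¹ * (g * y * g⁻¹) * g := by group
      _ = q⁻¹ * (q * y * q⁻¹) * g := by rw [hqe]
      _ = y * (q⁻¹ * g) := by group
  have hdvd : 1080 ∣ Nat.card Cy := by
    let i : Centralizers.cent (gperm Data.r6) →* Cy.map f :=
      ((MulAut.conj c⁻¹).toMonoidHom.comp (Frame.permBar.comp
        (Subgroup.inclusion (inf_le_left : Centralizers.cent (gperm Data.r6) ≤ M24)))).codRestrict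
          (Cy.map f) fun τ => by
        show c⁻¹ * Frame.permBar _ * c⁻¹⁻¹ ∈ _
        rw [inv_inv]
        exact hmem τ
    have hi : Function.Injective i := fun a b h => by
      have h1 := (MulAut.conj c⁻¹).injective (congrArg Subtype.val h)
      exact Subtype.ext (congrArg (fun x : M24 => (x : Equiv.Perm GolayPt))
        (Frame.permBar_injective h1))
    rw [← Centralizers.card_cent6]
    exact (Subgroup.card_dvd_of_injective i hi).trans (Subgroup.card_map_dvd Cy f)
  have hyC : y ∈ Cy := hCy ▸ Subgroup.mem_centralizer_singleton_iff.mpr rfl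
  have hyp : IsPGroup 3 (Subgroup.zpowers (⟨y, hyC⟩ : Cy)) := by
    refine IsPGroup.of_card (n := 1) ?_
    rw [Nat.card_zpowers, Subgroup.orderOf_mk, pow_one]
    exact orderOf_eq_prime hy fun e1 => hy1 (by rw [e1, map_one])
  obtain ⟨P0, hP0⟩ := hyp.exists_le_sylow
  obtain ⟨P, hP⟩ : ∃ P : Subgroup C2, P = (P0 : Subgroup Cy).map Cy.subtype := ⟨_, rfl⟩
  have hcardP : Nat.card P = 3 ^ (Nat.card C2).factorization 3 := by
    rw [hP, Subgroup.card_map_of_injective Subtype.val_injective, P0.card_eq_multiplicity]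
    congr 1
    have hC2 : (Nat.card C2).factorization 3 = 3 := by
      have h := Subgroup.card_mul_index f.ker
      rw [Subgroup.index_ker, hrange, card_crossBar] at h
      rw [← h, Nat.factorization_mul Nat.card_pos.ne' (by norm_num), Finsupp.add_apply,
        Nat.factorization_eq_zero_of_not_dvd hcop,
        show (501397585920 : ℕ) = 3 ^ 3 * 18570280960 by norm_num,
        Nat.factorization_mul (by norm_num) (by norm_num), Finsupp.add_apply,
        Nat.Prime.factorization_pow Nat.prime_three, Finsupp.single_eq_same,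
        Nat.factorization_eq_zero_of_not_dvd (by norm_num : ¬ 3 ∣ 18570280960), zero_add, add_zero]
    refine le_antisymm ?_ ?_
    · exact (Nat.factorization_le_iff_dvd Nat.card_pos.ne' Nat.card_pos.ne').mpr
        (Subgroup.card_subgroup_dvd_card Cy) 3
    · rw [hC2]
      exact (Nat.Prime.pow_dvd_iff_le_factorization Nat.prime_three Nat.card_pos.ne').mp
        (dvd_trans (by norm_num : (3 : ℕ) ^ 3 ∣ 1080) hdvd)
  refine ⟨Sylow.ofCard P hcardP, ?_⟩
  have hyP : y ∈ P := hP ▸ ⟨⟨y, hyC⟩, hP0 (Subgroup.mem_zpowers _), rfl⟩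
  rw [Sylow.coe_ofCard]
  refine ⟨⟨y, hyP⟩, Subgroup.mem_center_iff.mpr fun g => Subtype.ext ?_, rfl⟩
  have hgC : (g : C2) ∈ Cy := by
    have hg2 : (g : C2) ∈ (P0 : Subgroup Cy).map Cy.subtype := by rw [← hP]; exact g.2
    obtain ⟨w, -, hw⟩ := Subgroup.mem_map.mp hg2
    rw [← hw]
    exact w.2
  exact Subgroup.mem_centralizer_singleton_iff.mp (hCy ▸ hgC)

variable {G : Type*} [Group G] [Finite G] {z : G} {Q : Subgroup (Subgroup.centralizer ({z} : Set G))}
  [Q.Normal]

/-- The centraliser modulo the subgroup of order 3 is of Thompson type. -/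
theorem thompson_of_monster (hM : IsOfMonsterType z Q) (s : G)
    (hsQ : ∃ hsc : s ∈ Cen[z], (⟨s, hsc⟩ : Cen[z]) ∈ Q) (hs : IsConj z s) (hs1 : s ≠ z)
    (Y : Subgroup G) (hY : Y ≤ Subgroup.centralizer ({z, s} : Set G)) (hY3 : Nat.card Y = 3)
    (hnc : ∀ P : Sylow 3 ↥(Subgroup.centralizer ({z, s} : Set G)),
      ¬ Y.subgroupOf (Subgroup.centralizer ({z, s} : Set G)) ≤
        (Subgroup.center ↥(P : Subgroup ↥(Subgroup.centralizer ({z, s} : Set G)))).map
          (P : Subgroup ↥(Subgroup.centralizer ({z, s} : Set G))).subtype)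
    [hn : (Y.subgroupOf (Subgroup.centralizer (Y : Set G))).Normal] :
    IsOfThompsonType (↥(Subgroup.centralizer (Y : Set G)) ⧸
      Y.subgroupOf (Subgroup.centralizer (Y : Set G))) := by
  haveI : Fact (Nat.Prime 3) := ⟨Nat.prime_three⟩
  obtain ⟨hS, e, ψ, hle, hψ, hrange, hker⟩ := exists_standard hM hsQ hs hs1
  obtain ⟨⟨y0, hy0Y⟩, hy0⟩ := exists_prime_orderOf_dvd_card' (G := Y) 3 (by rw [hY3])
  rw [Subgroup.orderOf_mk] at hy0
  have hYz : Y = Subgroup.zpowers y0 :=
    (Subgroup.eq_of_le_of_card_ge (Subgroup.zpowers_le.mpr hy0Y)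
      (by rw [hY3, Nat.card_zpowers, hy0])).symm
  obtain ⟨C2, hC2⟩ : ∃ C, C = Subgroup.centralizer ({z, s} : Set G) := ⟨_, rfl⟩
  let y : Subgroup.centralizer ({z, s} : Set G) := ⟨y0, hY hy0Y⟩
  let b : Cen[z] := Subgroup.inclusion hle y
  have hb3 : b ^ 3 = 1 := Subtype.ext (by
    show y0 ^ 3 = 1
    rw [← hy0]; exact pow_orderOf_eq_one y0)
  have hb1 : b ≠ 1 := fun h => by
    have h' : y0 = 1 := congrArg Subtype.val h
    rw [h', orderOf_one] at hy0
    norm_num at hy0
  obtain ⟨f, hf⟩ : ∃ f, f =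
    (e.toMonoidHom.comp (QuotientGroup.mk' Q)).comp (Subgroup.inclusion hle) := ⟨_, rfl⟩
  rw [← hf] at hrange hker
  have hfy : f y = e (QuotientGroup.mk b) := by rw [hf]; rfl
  have hxo : orderOf (f y) = 3 := by
    rw [hfy]; exact pr_ne_one Nat.prime_three (by norm_num) hS e hb3 hb1
  have hxX : f y ∈ crossGroup.map Frame.bar := by rw [← hrange]; exact ⟨y, rfl⟩
  obtain ⟨σ, hσo, c, hcmem, hc⟩ := conj_permBar Nat.prime_three (by norm_num) hxX hxo
  have hσ1 : (σ : Equiv.Perm GolayPt) ≠ 1 := fun h => by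
    rw [show σ = 1 from Subtype.ext h, orderOf_one] at hσo
    norm_num at hσo
  have hσ3 : (σ : Equiv.Perm GolayPt) * σ * σ = 1 := by
    have h : σ ^ 3 = 1 := hσo ▸ pow_orderOf_eq_one σ
    rw [pow_succ, pow_two] at h
    exact congrArg Subtype.val h
  obtain ⟨m, hm, hcase⟩ := Classes.three_conj σ.2 hσ1 hσ3
  have hmove : ∀ r : M24, (σ : Equiv.Perm GolayPt) = m * r * m⁻¹ →
      Frame.permBar (⟨m, hm⟩⁻¹ : M24) * c ∈ crossGroup.map Frame.bar ∧
      Frame.permBar (⟨m, hm⟩⁻¹ : M24) * c * f y *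
        (Frame.permBar (⟨m, hm⟩⁻¹ : M24) * c)⁻¹ = Frame.permBar r := by
    intro r hr
    obtain ⟨μ, hμ⟩ : ∃ μ : M24, μ = ⟨m, hm⟩ := ⟨_, rfl⟩
    have hσ : σ = μ * r * μ⁻¹ := Subtype.ext (by rw [hμ]; exact hr)
    rw [← hμ]
    refine ⟨mul_mem ⟨_, Frame.permHom_mem_cross μ⁻¹, rfl⟩ hcmem, ?_⟩
    calc Frame.permBar μ⁻¹ * c * f y * (Frame.permBar μ⁻¹ * c)⁻¹
        = Frame.permBar μ⁻¹ * (c * f y * c⁻¹) * (Frame.permBar μ⁻¹)⁻¹ := by group
      _ = _ := by rw [hc, hσ, ← map_inv, ← map_mul, ← map_mul]; congr 1; group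
  rcases hcase with h6 | h0
  · exfalso
    have hr6 : inM24 Data.r6 = true := by decide +kernel
    obtain ⟨hmem, hconj⟩ := hmove ⟨gperm Data.r6, gperm_mem_M24 hr6⟩ h6
    obtain ⟨P, hP⟩ := central_of_six f hrange hker (y := y)
      (Subtype.ext (congrArg (fun t : Cen[z] => (t : G)) hb3)) (fun h => by rw [h, orderOf_one] at hxo; norm_num at hxo)
      rfl hmem hconj
    refine hnc P fun w hw => ?_
    rw [Subgroup.mem_subgroupOf, hYz] at hw
    obtain ⟨i, hi⟩ := Subgroup.mem_zpowers_iff.mp hw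
    rw [show w = y ^ i from Subtype.ext (by rw [SubgroupClass.coe_zpow]; exact hi.symm)]
    exact zpow_mem hP i
  · obtain ⟨-, hconj⟩ := hmove (LatData.σ good.lat) h0
    rw [hfy] at hconj
    obtain ⟨e', ψ', X⟩ := ctx_of_conj (H := good) hS hψ (b := b) hb3 hconj
    obtain ⟨z', R, hR, hset, hiso⟩ := X.local_type (B := Y) hYz no_normal_two
      (L := alternatingGroup (Fin 9)) (show good.phi.range ≃* alternatingGroup (Fin 9) from
        MulEquiv.subgroupCongr range_eq)
    exact ⟨z', R, hR, hset, hiso⟩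

end Cfsg.Agent.Lib.MonsterLocal52.Thompson
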